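import Groth.Agent.DepthBCLib.Basic
import Groth.Agent.DepthTwoLib.Reflexive
import Groth.Agent.DepthTwoLib.FibreStalk
import Mathlib.RingTheory.Spectrum.Prime.FreeLocus

/-! Double duals and base change. -/

set_option autoImplicit false
set_option linter.style.haveILetI false
set_option linter.unusedSectionVars false
set_option maxHeartbeats 1000000

universe u

open IsLocalRing TensorProduct RingTheory.Sequence DepthTwoLib
open scoped Pointwise

namespace Groth.Agent.DepthBCLib

section Loc

variable {B B' : Type u} [CommRing B] [CommRing B'] [Algebra B B'] {P : Type u} [AddCommGroup P] [Module B' P]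
  [Module B P] [IsScalarTower B B' P]

theorem hasSeqIn_of_pairAt {q : Ideal B} (q' : Ideal B') [q'.IsPrime] (hq : q'.comap (algebraMap B B') = q)
    {x y : B} (hx : x ∈ q) (hy : y ∈ q) (h : PairAt P q x y) :
    CommAlgDim.HasSeqIn (maximalIdeal (Localization.AtPrime q')) (LocalizedModule q'.primeCompl P) 2 := by
  let L := Localization.AtPrime q'
  let c := fun z : B => algebraMap B' L (algebraMap B B' z)
  have hmem : ∀ z ∈ q, c z ∈ maximalIdeal L := fun z hz =>
    (IsLocalization.AtPrime.to_map_mem_maximal_iff L q' _).2 (by rw [← Ideal.mem_comap, hq]; exact hz)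
  have hnot : ∀ t ∉ q, algebraMap B B' t ∉ q' := fun t ht ht' => ht (hq ▸ Ideal.mem_comap.2 ht')
  have hc : ∀ (z : B) (m : P) (s : q'.primeCompl), c z • LocalizedModule.mk m s = LocalizedModule.mk (z • m) s :=
    fun z m s => by
      rw [show c z • LocalizedModule.mk m s = algebraMap B B' z • LocalizedModule.mk m s from algebraMap_smul L _ _,
        LocalizedModule.smul'_mk, algebraMap_smul]
  refine ⟨[c x, c y], rfl, fun r hr => ?_, ?_⟩
  · rcases List.mem_cons.1 hr with rfl | hr
    · exact hmem x hx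
    · rcases List.mem_cons.1 hr with rfl | hr
      · exact hmem y hy
      · simp at hr
  rw [isWeaklyRegular_cons_iff, isWeaklyRegular_singleton_iff]
  refine ⟨fun a b hab => sub_eq_zero.1 ?_, fun a b hab => sub_eq_zero.1 ?_⟩
  · have h0 : c x • (a - b) = 0 := by rw [smul_sub]; exact sub_eq_zero.2 hab
    revert h0
    generalize a - b = d
    induction d using LocalizedModule.induction_on with
    | h m s =>
      intro h0
      rw [hc, ← LocalizedModule.zero_mk s, LocalizedModule.mk_eq] at h0
      obtain ⟨w, hw⟩ := h0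
      simp only [smul_zero, Submonoid.smul_def, smul_smul] at hw
      obtain ⟨t, ht, htm⟩ := h.1 (((w : B') * s) • m) (by rw [smul_comm, hw])
      rw [← algebraMap_smul B' t, smul_smul] at htm
      rw [← LocalizedModule.zero_mk s, LocalizedModule.mk_eq]
      exact ⟨⟨algebraMap B B' t, hnot t ht⟩ * w, by simp only [smul_zero, Submonoid.smul_def, Submonoid.coe_mul, smul_smul, mul_assoc]; exact htm⟩
  · have h0 : c y • (a - b) = 0 := by rw [smul_sub]; exact sub_eq_zero.2 hab
    revert h0
    generalize a - b = d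
    obtain ⟨d, rfl⟩ := Submodule.Quotient.mk_surjective _ d
    rw [← Submodule.Quotient.mk_smul, Submodule.Quotient.mk_eq_zero, Submodule.Quotient.mk_eq_zero,
      Submodule.mem_smul_pointwise_iff_exists, Submodule.mem_smul_pointwise_iff_exists]
    induction d using LocalizedModule.induction_on with
    | h m s =>
      rintro ⟨e, -, he⟩
      induction e using LocalizedModule.induction_on with
      | h n r =>
        rw [hc, hc, LocalizedModule.mk_eq] at he
        obtain ⟨w, hw⟩ := he
        simp only [Submonoid.smul_def, smul_smul] at hw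
        obtain ⟨t, ht, n', hn'⟩ := h.2 (((w : B') * r) • m) (((w : B') * s) • n)
          (by rw [smul_comm y, smul_comm x]; exact hw.symm)
        rw [← algebraMap_smul B' t, smul_smul] at hn'
        refine ⟨LocalizedModule.mk n' (⟨algebraMap B B' t, hnot t ht⟩ * w * r * s), Submodule.mem_top, ?_⟩
        rw [hc, ← hn', LocalizedModule.mk_eq]
        exact ⟨1, by simp only [Submonoid.smul_def, Submonoid.coe_mul, Submonoid.coe_one, one_smul, smul_smul]; ring_nf⟩

end Loc

section BC

variable {A B : Type u} [CommRing A] [CommRing B] [IsNoetherianRing A] [IsNoetherianRing B] [Algebra A B]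
  (A' B' : Type u) [CommRing A'] [CommRing B'] [IsNoetherianRing B']
  [Algebra A A'] [Algebra B B'] [Algebra A' B'] [Algebra A B'] [IsScalarTower A B B'] [IsScalarTower A A' B']
  [Algebra.IsPushout A B A' B'] (J : Ideal B)
  (E : Type u) [AddCommGroup E] [Module B E] [Module A E] [IsScalarTower A B E] [Module.Finite B E]

include A'

/-- Depth two along `J` survives every base change. -/
theorem d2_baseChange (hflat : ∀ q : PrimeSpectrum B, J ≤ q.asIdeal → FlatCA.FlatAt A q.asIdeal E)
    (hd : ∀ q : PrimeSpectrum B, J ≤ q.asIdeal →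
      2 ≤ LocCoh.idealDepth (q.asIdeal.map (algebraMap B (EGA4.FibLocRing A B q.asIdeal))) (EGA4.FibLocMod A B q.asIdeal E)) :
    D2 (J.map (algebraMap B B')) (B' ⊗[B] E) := by
  haveI : Algebra.IsPushout A A' B B' := Algebra.IsPushout.symm inferInstance
  let c := Algebra.IsPushout.cancelBaseChange A A' B B' E
  let e0 : E ⊗[A] A' ≃+ B' ⊗[B] E := (TensorProduct.comm A E A').toAddEquiv.trans c.symm.toAddEquiv
  let e : E ⊗[A] A' ≃ₗ[B] B' ⊗[B] E := AddEquiv.toLinearEquiv e0 fun b w => by
    induction w with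
    | zero => simp
    | tmul m a =>
      show c.symm (a ⊗ₜ[A] (b • m)) = b • c.symm (a ⊗ₜ[A] m)
      rw [Algebra.IsPushout.cancelBaseChange_symm_tmul, Algebra.IsPushout.cancelBaseChange_symm_tmul, TensorProduct.tmul_smul]
    | add u v hu hv => rw [smul_add, map_add, hu, hv, map_add, smul_add]
  rw [← two_le_iff]
  refine (CommAlgDim.le_idealDepth_iff _ 2).2 ((CommAlgDim.hasSeqIn_iff_forall_localization _ 2).2 fun q' _ hJ => ?_)
  let q := q'.comap (algebraMap B B')
  have hJq : J ≤ q := Ideal.map_le_iff_le_comap.1 hJ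
  obtain ⟨x, hx, y, hy, h⟩ := exists_pairAt (A := A) E q (hflat ⟨q, inferInstance⟩ hJq) (hd ⟨q, inferInstance⟩ hJq)
  exact (CommAlgDim.le_depth_iff 2).2 (hasSeqIn_of_pairAt q' rfl hx hy ((h A').congr e))

theorem d2_baseChange_self [Module.Flat A B]
    (hZ : ∀ q : PrimeSpectrum B, J ≤ q.asIdeal →
      2 ≤ LocCoh.idealDepth (q.asIdeal.map (algebraMap B (EGA4.FibLocRing A B q.asIdeal))) (EGA4.FibLocRing A B q.asIdeal)) :
    D2 (J.map (algebraMap B B')) B' :=
  (d2_baseChange A' B' J B (fun q _ => flat_localizedModule B q.asIdeal.primeCompl)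
    fun q hq => le_fibLocMod_self q.asIdeal 2 (hZ q hq)).congr (AlgebraTensorModule.rid B B' B').symm

end BC

section Dual

variable {R : Type u} [CommRing R] [IsNoetherianRing R] {J : Ideal R}

theorem d2_of_le {M : Type u} [AddCommGroup M] [Module R M] [Module.Finite R M] (h : D2 J M) (K : Ideal R)
    (hK : ∀ q : Ideal R, q.IsPrime → K ≤ q → J ≤ q) : D2 K M := by
  rw [← two_le_iff] at h ⊢
  have h' := (CommAlgDim.hasSeqIn_iff_forall_localization J 2).1 ((CommAlgDim.le_idealDepth_iff J 2).1 h)
  exact (CommAlgDim.le_idealDepth_iff K 2).2 ((CommAlgDim.hasSeqIn_iff_forall_localization K 2).2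
    fun q hq hle => h' q (hK q hq hle))

theorem d2_dual (hR : D2 J R) (M : Type u) [AddCommGroup M] [Module R M] [Module.Finite R M] :
    D2 J (Module.Dual R M) := by
  haveI : Module.FinitePresentation R M := Module.finitePresentation_of_finite R M
  obtain ⟨n, π, hπ⟩ := Module.Finite.exists_fin' R M
  obtain ⟨m, ρ, hρ⟩ := Module.Finite.exists_fin' R (LinearMap.ker π)
  let ιρ : (Fin m → R) →ₗ[R] (Fin n → R) := (LinearMap.ker π).subtype ∘ₗ ρ
  refine D2.left π.dualMap ιρ.dualMap (LinearMap.dualMap_injective_of_surjective hπ) ?_ ?_ (hR.1.dual _)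
  · intro φ
    constructor
    · intro hφ
      have hker : LinearMap.ker π ≤ LinearMap.ker φ := fun x hx => by
        obtain ⟨y, hy⟩ := hρ ⟨x, hx⟩
        have := LinearMap.congr_fun hφ y
        simpa [ιρ, hy] using this
      refine ⟨(LinearMap.ker π).liftQ φ hker ∘ₗ (π.quotKerEquivOfSurjective hπ).symm.toLinearMap, LinearMap.ext fun x => ?_⟩
      show (LinearMap.ker π).liftQ φ hker ((π.quotKerEquivOfSurjective hπ).symm (π x)) = φ x
      rw [show π x = π.quotKerEquivOfSurjective hπ (Submodule.Quotient.mk x) from rfl]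
      simp
    · rintro ⟨g, rfl⟩
      refine LinearMap.ext fun y => ?_
      show g (π (ρ y : Fin n → R)) = 0
      rw [(ρ y).2, map_zero]
  · exact (hR.pi (ι := ULift.{u} (Fin n))).congr
      ((Pi.basisFun R (Fin n)).dualBasis.equivFun.trans (LinearEquiv.funCongrLeft R R Equiv.ulift))

/-- A map which is an isomorphism off `V(J)` becomes bijective on duals. -/
theorem bijective_dualMap (hR : D2 J R) {M₁ M₂ : Type u} [AddCommGroup M₁] [Module R M₁] [AddCommGroup M₂]
    [Module R M₂] (φ : M₁ →ₗ[R] M₂)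
    (hloc : ∀ q : Ideal R, q.IsPrime → ¬ J ≤ q →
      (∀ m, φ m = 0 → ∃ t ∉ q, t • m = 0) ∧ ∀ y, ∃ t ∉ q, ∃ m, φ m = t • y) :
    Function.Bijective φ.dualMap := by
  refine ⟨(injective_iff_map_eq_zero _).2 fun ψ hψ => LinearMap.ext fun y => hR.1.eq_zero _ fun q hq hJ => ?_,
    fun χ => ?_⟩
  · obtain ⟨t, ht, m, hm⟩ := (hloc q hq hJ).2 y
    refine ⟨t, ht, ?_⟩
    rw [← map_smul, ← hm]
    exact LinearMap.congr_fun hψ m
  have hχ : ∀ m, φ m = 0 → χ m = 0 := fun m hm => hR.1.eq_zero _ fun q hq hJ => by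
    obtain ⟨t, ht, htm⟩ := (hloc q hq hJ).1 m hm
    exact ⟨t, ht, by rw [← map_smul, htm, map_zero]⟩
  let I : M₂ → Ideal R := fun y => (LinearMap.range φ).comap (LinearMap.toSpanSingleton R M₂ y)
  have hI : ∀ y, ∀ q : Ideal R, q.IsPrime → I y ≤ q → J ≤ q := fun y q hq hle => by
    by_contra hJ
    obtain ⟨t, ht, m, hm⟩ := (hloc q hq hJ).2 y
    exact ht (hle ⟨m, hm⟩)
  let χ' : LinearMap.range φ →ₗ[R] R :=
    (LinearMap.ker φ).liftQ χ (fun m hm => hχ m hm) ∘ₗ φ.quotKerEquivRange.symm.toLinearMap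
  have hχ' : ∀ (m : M₁) (z : LinearMap.range φ), φ m = z → χ' z = χ m := fun m z hz => by
    obtain rfl : z = φ.quotKerEquivRange (Submodule.Quotient.mk m) := Subtype.ext hz.symm
    simp only [χ', LinearMap.comp_apply, LinearEquiv.coe_coe, LinearEquiv.symm_apply_apply]
    exact Submodule.liftQ_apply _ _ m
  have hex : ∀ y, ∃ g : R, ∀ (a : R) (m : M₁), φ m = a • y → χ m = a * g := fun y => by
    obtain ⟨g, hg⟩ := (d2_of_le hR (I y) (hI y)).2
      (χ' ∘ₗ (LinearMap.toSpanSingleton R M₂ y).restrict (q := LinearMap.range φ) (fun a ha => ha))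
    refine ⟨g, fun a m hm => ?_⟩
    have hmem : a ∈ I y := ⟨m, hm⟩
    rw [← smul_eq_mul, ← hg ⟨a, hmem⟩]
    exact (hχ' m _ hm).symm
  choose g hg using hex
  have huniq : ∀ (c : R) (K : Ideal R), (∀ q : Ideal R, q.IsPrime → K ≤ q → J ≤ q) → (∀ a ∈ K, a * c = 0) → c = 0 :=
    fun c K hK h => (d2_of_le hR K hK).1 c fun a ha => h a ha
  refine ⟨{ toFun := g, map_add' := fun y z => ?_, map_smul' := fun r y => ?_ }, LinearMap.ext fun m => ?_⟩
  · refine sub_eq_zero.1 (huniq _ (I y ⊓ I z) (fun q hq hle => ?_) fun a ha => ?_)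
    · rcases hq.inf_le.1 hle with h | h
      exacts [hI y q hq h, hI z q hq h]
    · obtain ⟨⟨m, hm⟩, m', hm'⟩ := ha
      have h := hg (y + z) a (m + m') (by rw [map_add, hm, hm', LinearMap.toSpanSingleton_apply, LinearMap.toSpanSingleton_apply, smul_add])
      rw [map_add, hg y a m hm, hg z a m' hm'] at h
      rw [mul_sub, ← h, mul_add, sub_self]
  · refine sub_eq_zero.1 (huniq _ (I y) (hI y) fun a ha => ?_)
    obtain ⟨m, hm⟩ := ha
    have h := hg (r • y) a (r • m) (by rw [map_smul, hm, LinearMap.toSpanSingleton_apply, smul_comm])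
    rw [map_smul, hg y a m hm] at h
    rw [mul_sub, ← h, smul_eq_mul, smul_eq_mul, RingHom.id_apply]
    ring
  · show g (φ m) = χ m
    rw [hg (φ m) 1 m (one_smul _ _).symm, one_mul]

/-- Evaluation at a prime where the module is free. -/
theorem exists_inverse_eval (F : Type u) [AddCommGroup F] [Module R F] [Module.Finite R F] (q : Ideal R) [q.IsPrime]
    [Module.IsReflexive (Localization.AtPrime q) (LocalizedModule q.primeCompl F)] :
    ∃ w ∉ q, ∃ g : Module.Dual R (Module.Dual R F) →ₗ[R] F,
      (∀ x, g (Module.Dual.eval R F x) = w • x) ∧ ∀ y, Module.Dual.eval R F (g y) = w • y := by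
  classical
  haveI : Module.FinitePresentation R F := Module.finitePresentation_of_finite R F
  let ev := Module.Dual.eval R F
  let S := q.primeCompl
  let gG := LocalizedModule.mkLinearMap S F
  let gA := Algebra.linearMap R (Localization.AtPrime q)
  let Φ := IsLocalizedModule.mapExtendScalars S gG gA (Localization.AtPrime q)
  have hΦ : ∀ (φ : F →ₗ[R] R) (z : F), Φ φ (gG z) = gA (φ z) := fun φ z => by
    show IsLocalizedModule.map S gG gA φ (gG z) = _
    rw [IsLocalizedModule.map_apply]
  have key1 : ∀ x, ev x = 0 → ∃ u ∉ q, u • x = 0 := fun x hx => by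
    have h0 : gG x = 0 := (Module.bijective_dual_eval (Localization.AtPrime q) (LocalizedModule S F)).1 <| by
      refine LinearMap.ext fun φ' => ?_
      rw [Module.Dual.eval_apply, map_zero, LinearMap.zero_apply]
      obtain ⟨⟨φ, s⟩, hφ⟩ := IsLocalizedModule.surj S Φ φ'
      have h1 : s • φ' (gG x) = 0 := by
        rw [← LinearMap.smul_apply, hφ, hΦ, show φ x = 0 from LinearMap.congr_fun hx φ, map_zero]
      exact IsLocalizedModule.smul_injective gA s (h1.trans (smul_zero s).symm)
    obtain ⟨u, hu⟩ := (IsLocalizedModule.eq_zero_iff S gG).1 h0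
    exact ⟨u, u.2, hu⟩
  have key2 : ∀ y, ∃ u ∉ q, ∃ x, ev x = u • y := fun y => by
    let y' := IsLocalizedModule.mapExtendScalars S Φ gA (Localization.AtPrime q) y
    have hy' : ∀ φ : F →ₗ[R] R, y' (Φ φ) = gA (y φ) := fun φ => by
      show IsLocalizedModule.map S Φ gA y (Φ φ) = _
      rw [IsLocalizedModule.map_apply]
    obtain ⟨x', hx'⟩ := (Module.bijective_dual_eval (Localization.AtPrime q) (LocalizedModule S F)).2 y'
    obtain ⟨⟨x, s⟩, hxs⟩ := IsLocalizedModule.surj S gG x'
    have hz : ∀ φ : F →ₗ[R] R, ∃ u : S, (u : R) • ((s : R) • y φ - φ x) = 0 := fun φ => by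
      refine (IsLocalizedModule.eq_zero_iff S gA).1 ?_
      rw [map_sub, map_smul, sub_eq_zero, ← hy', ← hx', Module.Dual.eval_apply, ← hΦ]
      change (s : R) • (Φ φ) x' = _
      rw [← LinearMap.map_smul_of_tower, ← Submonoid.smul_def, hxs]
    obtain ⟨t, ht⟩ := (inferInstance : Module.Finite R (Module.Dual R F)).fg_top
    choose u hu using hz
    let U : R := ∏ φ ∈ t, (u φ : R)
    refine ⟨U * s, q.primeCompl.mul_mem (Submonoid.prod_mem _ fun φ _ => (u φ).2) s.2, U • x,
      LinearMap.ext_on ht fun φ hφ => ?_⟩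
    obtain ⟨c, hc⟩ := Finset.dvd_prod_of_mem (fun ψ => (u ψ : R)) hφ
    simp only [ev, map_smul, LinearMap.smul_apply, Module.Dual.eval_apply]
    have h := hu φ
    rw [smul_sub, sub_eq_zero] at h
    simp only [smul_eq_mul] at h ⊢
    rw [show U = (u φ : R) * c from hc]
    linear_combination -c * h
  obtain ⟨t1, ht1⟩ := (IsNoetherian.noetherian (LinearMap.ker ev))
  obtain ⟨t2, ht2⟩ := (inferInstance : Module.Finite R (Module.Dual R (Module.Dual R F))).fg_top
  choose u1 hu1 hu1' using key1
  choose u2 hu2 hu2' using key2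
  have hp : ∀ x : {x // x ∈ t1}, ev x.1 = 0 := fun x => by
    have h := Submodule.subset_span (R := R) (Finset.mem_coe.2 x.2)
    rw [ht1] at h
    exact h
  let w : R := (∏ x ∈ t1.attach, u1 x.1 (hp x)) * ∏ y ∈ t2, u2 y
  have hw : w ∉ q := q.primeCompl.mul_mem (Submonoid.prod_mem _ fun x _ => hu1 _ _) (Submonoid.prod_mem _ fun y _ => hu2 y)
  have hker : ∀ x, ev x = 0 → w • x = 0 := fun x hx => by
    have : LinearMap.ker ev ≤ LinearMap.ker (w • LinearMap.id : F →ₗ[R] F) := by
      rw [← ht1, Submodule.span_le]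
      intro z hz
      obtain ⟨c, hc⟩ := Finset.dvd_prod_of_mem (fun x : t1 => u1 x.1 (hp x))
        (Finset.mem_attach t1 ⟨z, hz⟩)
      show w • z = 0
      rw [show w = _ * ∏ y ∈ t2, u2 y from rfl, hc, mul_comm (u1 z _) c, mul_right_comm, mul_smul, hu1', smul_zero]
    exact this hx
  have hrange : ∀ y, ∃ x, ev x = w • y := fun y => by
    have : (⊤ : Submodule R _) ≤ (LinearMap.range ev).comap (w • LinearMap.id) := by
      rw [← ht2, Submodule.span_le]
      intro z hz
      obtain ⟨c, hc⟩ := Finset.dvd_prod_of_mem u2 hz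
      obtain ⟨x, hx⟩ := hu2' z
      refine ⟨((∏ x ∈ t1.attach, u1 x.1 (hp x)) * c) • x, ?_⟩
      show ev _ = w • z
      rw [map_smul, hx, smul_smul, show w = _ * ∏ y ∈ t2, u2 y from rfl, hc]
      congr 1; ring
    exact this Submodule.mem_top
  choose g0 hg0 using hrange
  have hwd : ∀ y x, ev x = w • y → w • g0 y = w • x := fun y x hx => by
    rw [← sub_eq_zero, ← smul_sub]
    exact hker _ (by rw [map_sub, hg0, hx, sub_self])
  refine ⟨w * w, fun h => hw (((inferInstance : q.IsPrime).mem_or_mem h).elim id id),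
    { toFun := fun y => w • g0 y
      map_add' := fun y z => by rw [hwd _ (g0 y + g0 z) (by rw [map_add, hg0, hg0, smul_add]), smul_add]
      map_smul' := fun r y => by rw [hwd _ (r • g0 y) (by rw [map_smul, hg0, smul_comm]), smul_comm, RingHom.id_apply] },
    fun x => ?_, fun y => ?_⟩
  · show w • g0 (ev x) = _
    rw [hwd _ (w • x) (map_smul ev w x), smul_smul]
  · show ev (w • g0 y) = _
    rw [map_smul, hg0, smul_smul]

end Dual

section Main

variable {A B : Type u} [CommRing A] [CommRing B] [IsNoetherianRing A] [IsNoetherianRing B] [Algebra A B]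
  (A' B' : Type u) [CommRing A'] [CommRing B'] [IsNoetherianRing B']
  [Algebra A A'] [Algebra B B'] [Algebra A' B'] [Algebra A B'] [IsScalarTower A B B'] [IsScalarTower A A' B']
  [Algebra.IsPushout A B A' B'] [Module.Flat A B] (J : Ideal B)
  (hZ : ∀ q : PrimeSpectrum B, J ≤ q.asIdeal →
    2 ≤ LocCoh.idealDepth (q.asIdeal.map (algebraMap B (EGA4.FibLocRing A B q.asIdeal))) (EGA4.FibLocRing A B q.asIdeal))

include hZ

theorem d2_ring : D2 J B := by
  rw [← two_le_iff]
  exact (CommAlgDim.le_idealDepth_iff J 2).2 ((CommAlgDim.hasSeqIn_iff_forall_localization J 2).2 fun q hq hJq =>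
    (depth_stalk_of_fibre (A := A) (E := B) q).2 (le_fibLocMod_self q 2 (hZ ⟨q, hq⟩ hJq)))

variable {F : Type u} [AddCommGroup F] [Module B F] [Module.Finite B F]
  (hFU : ∀ q : PrimeSpectrum B, ¬ J ≤ q.asIdeal → Module.Free (Localization.AtPrime q.asIdeal) (LocalizedModule q.asIdeal.primeCompl F))

include hFU

section

include A'

theorem bijective_ddual_baseChange :
    Function.Bijective (((Module.Dual.eval B F).baseChange B').dualMap.dualMap) := by
  have hd : D2 (J.map (algebraMap B B')) B' := d2_baseChange_self A' B' J hZ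
  have h : Function.Bijective ((Module.Dual.eval B F).baseChange B').dualMap := by
    refine bijective_dualMap hd _ fun q' hq' hJ => ?_
    let q := q'.comap (algebraMap B B')
    have hJq : ¬ J ≤ q := fun h => hJ (Ideal.map_le_iff_le_comap.2 h)
    haveI := hFU ⟨q, inferInstance⟩ hJq
    obtain ⟨w, hw, g, hg, hg'⟩ := exists_inverse_eval F q
    have h1 : g ∘ₗ Module.Dual.eval B F = w • LinearMap.id := LinearMap.ext hg
    have h2 : Module.Dual.eval B F ∘ₗ g = w • LinearMap.id := LinearMap.ext hg'
    refine ⟨fun m hm => ⟨algebraMap B B' w, hw, ?_⟩, fun y => ⟨algebraMap B B' w, hw, g.baseChange B' y, ?_⟩⟩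
    · have := LinearMap.congr_fun (congrArg (LinearMap.baseChange B') h1) m
      rw [LinearMap.baseChange_comp, LinearMap.comp_apply, hm, map_zero, LinearMap.baseChange_smul,
        LinearMap.baseChange_id] at this
      rw [algebraMap_smul]; exact this.symm
    · have := LinearMap.congr_fun (congrArg (LinearMap.baseChange B') h2) y
      rw [LinearMap.baseChange_comp, LinearMap.comp_apply, LinearMap.baseChange_smul, LinearMap.baseChange_id] at this
      rw [algebraMap_smul]; exact this
  exact (LinearEquiv.ofBijective _ h).dualMap.bijective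

theorem isReflexive_of_fibre_depth [Module A F] [IsScalarTower A B F] [Module.Flat A F]
    (hd : ∀ q : PrimeSpectrum B, J ≤ q.asIdeal →
      2 ≤ LocCoh.idealDepth (q.asIdeal.map (algebraMap B (EGA4.FibLocRing A B q.asIdeal))) (EGA4.FibLocMod A B q.asIdeal F)) :
    Module.IsReflexive B F ∧ Module.IsReflexive B' (B' ⊗[B] F) := by
  have hF : D2 J F := by
    rw [← two_le_iff]
    exact (CommAlgDim.le_idealDepth_iff J 2).2 ((CommAlgDim.hasSeqIn_iff_forall_localization J 2).2 fun q hq hJq =>
      (depth_stalk_of_fibre (A := A) (E := F) q).2 (hd ⟨q, hq⟩ hJq))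
  refine ⟨isReflexive_of_d2 F (d2_ring J hZ).1 hF fun q hq => ?_, isReflexive_of_d2 (B' ⊗[B] F)
    (d2_baseChange_self A' B' J hZ).1
    (d2_baseChange A' B' J F (fun q _ => flat_localizedModule F q.asIdeal.primeCompl) hd) fun q' hq' => ?_⟩
  · haveI := hFU q hq
    haveI : IsNoetherianRing (Localization.AtPrime q.asIdeal) := IsLocalization.isNoetherianRing q.asIdeal.primeCompl _ inferInstance
    infer_instance
  · have hq : PrimeSpectrum.comap (algebraMap B B') q' ∈ Module.freeLocus B F :=
      hFU _ fun h => hq' (Ideal.map_le_iff_le_comap.2 h)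
    haveI : Module.Free _ _ := Module.comap_freeLocus_le (A := B') hq
    infer_instance

end

end Main

end Groth.Agent.DepthBCLib
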