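import Groth.Agent.FlatNbhdLib.Main
import Groth.Agent.DepthTwoLib.FibreDepth
import Groth.Agent.S5774
import Mathlib.RingTheory.IsTensorProduct

/-! Depth two along a closed subset is inherited by arbitrary base changes. -/

set_option autoImplicit false
set_option linter.style.haveILetI false
set_option linter.unusedSectionVars false
set_option maxHeartbeats 1000000

universe u

open IsLocalRing TensorProduct RingTheory.Sequence DepthTwoLib
open scoped Pointwise

namespace Groth.Agent.DepthBCLib

variable {A B : Type u} [CommRing A] [CommRing B] [Algebra A B]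

/-- The fibre stalk of the ring as a module. -/
theorem le_fibLocMod_self (q : Ideal B) [q.IsPrime] (k : ℕ∞)
    (h : k ≤ LocCoh.idealDepth (q.map (algebraMap B (EGA4.FibLocRing A B q))) (EGA4.FibLocRing A B q)) :
    k ≤ LocCoh.idealDepth (q.map (algebraMap B (EGA4.FibLocRing A B q))) (EGA4.FibLocMod A B q B) := by
  let 𝔞 : Ideal (Localization.AtPrime q) :=
    (q.comap (algebraMap A B)).map (algebraMap A (Localization.AtPrime q))
  let e0 : LocalizedModule q.primeCompl B ≃ₗ[Localization.AtPrime q] Localization.AtPrime q :=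
    LinearEquiv.extendScalarsOfIsLocalization q.primeCompl (Localization.AtPrime q)
      (IsLocalizedModule.linearEquiv q.primeCompl (LocalizedModule.mkLinearMap q.primeCompl B)
        (Algebra.linearMap B (Localization.AtPrime q)))
  have hmap : (𝔞 • (⊤ : Submodule (Localization.AtPrime q) (LocalizedModule q.primeCompl B))).map e0.toLinearMap = 𝔞 := by
    rw [Submodule.map_smul'', Submodule.map_top, LinearEquiv.range, smul_eq_mul, Ideal.mul_top]
  let e1 := Submodule.Quotient.equiv _ 𝔞 e0 hmap
  let e : EGA4.FibLocMod A B q B ≃ₗ[EGA4.FibLocRing A B q] EGA4.FibLocRing A B q :=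
    { e1.toAddEquiv with
      map_smul' := fun c x => by
        obtain ⟨c, rfl⟩ := Ideal.Quotient.mk_surjective c
        obtain ⟨y, rfl⟩ := Submodule.Quotient.mk_surjective _ x
        show e1 (c • Submodule.Quotient.mk y) = c • e1 (Submodule.Quotient.mk y)
        rw [map_smul] }
  exact le_of_le_of_eq h (CommAlgDim.idealDepth_congr _ e).symm

/-- Multiplication by `x` on a tensor product. -/
theorem rTensor_smul_id {M : Type u} [AddCommGroup M] [Module B M] [Module A M] [IsScalarTower A B M]
    (x : B) {N : Type u} [AddCommGroup N] [Module A N] (t : M ⊗[A] N) :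
    LinearMap.rTensor N ((DistribSMul.toLinearMap B M x).restrictScalars A) t = x • t := by
  induction t using TensorProduct.induction_on with
  | zero => simp
  | tmul a b => simp [TensorProduct.smul_tmul']
  | add a b ha hb => rw [map_add, ha, hb, smul_add]

/-- Regularity with flat quotient survives tensor products. -/
theorem smul_injective_of_flat_quot {M : Type u} [AddCommGroup M] [Module B M] [Module A M] [IsScalarTower A B M]
    (x : B) (hx : IsSMulRegular M x) [Module.Flat A (M ⧸ Ideal.span {x} • (⊤ : Submodule B M))]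
    (N : Type u) [AddCommGroup N] [Module A N] : IsSMulRegular (M ⊗[A] N) x := by
  let μ : M →ₗ[A] M := (DistribSMul.toLinearMap B M x).restrictScalars A
  let π : M →ₗ[A] M ⧸ Ideal.span {x} • (⊤ : Submodule B M) := (Submodule.mkQ _).restrictScalars A
  have hex : Function.Exact μ π := fun m => by
    show Submodule.Quotient.mk m = 0 ↔ _
    rw [Submodule.Quotient.mk_eq_zero, Submodule.ideal_span_singleton_smul, Submodule.mem_smul_pointwise_iff_exists]
    exact ⟨fun ⟨c, _, hc⟩ => ⟨c, hc⟩, fun ⟨c, hc⟩ => ⟨c, Submodule.mem_top, hc⟩⟩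
  have hinj : Function.Injective (LinearMap.rTensor N μ) := by
    rw [← LinearMap.lTensor_inj_iff_rTensor_inj]
    exact LinearMap.lTensor_injective_of_exact_of_flat π (Submodule.mkQ_surjective _) μ hx hex N
  intro a b hab
  exact hinj (by rw [rTensor_smul_id, rTensor_smul_id]; exact hab)

/-- A regular pair with flat quotients on a tensor product. -/
theorem pair_tensor {M : Type u} [AddCommGroup M] [Module B M] [Module A M] [IsScalarTower A B M] (x y : B)
    [Module.Flat A (M ⧸ Ideal.span {x} • (⊤ : Submodule B M))]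
    [Module.Flat A ((M ⧸ Ideal.span {x} • (⊤ : Submodule B M)) ⧸
      Ideal.span {y} • (⊤ : Submodule B (M ⧸ Ideal.span {x} • (⊤ : Submodule B M))))]
    (hy : IsSMulRegular (M ⧸ Ideal.span {x} • (⊤ : Submodule B M)) y)
    (N : Type u) [AddCommGroup N] [Module A N] (w v : M ⊗[A] N) (h : y • w = x • v) : ∃ z, w = x • z := by
  let π : M →ₗ[B] M ⧸ Ideal.span {x} • (⊤ : Submodule B M) := Submodule.mkQ _
  let rπ := AlgebraTensorModule.rTensor A N π
  have hex : Function.Exact ((DistribSMul.toLinearMap B M x).restrictScalars A) (π.restrictScalars A) := fun m => by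
    show Submodule.Quotient.mk m = 0 ↔ _
    rw [Submodule.Quotient.mk_eq_zero, Submodule.ideal_span_singleton_smul, Submodule.mem_smul_pointwise_iff_exists]
    exact ⟨fun ⟨c, _, hc⟩ => ⟨c, hc⟩, fun ⟨c, hc⟩ => ⟨c, Submodule.mem_top, hc⟩⟩
  have hT := rTensor_exact N hex (Submodule.mkQ_surjective _)
  have hx0 : rπ (x • v) = 0 := (hT _).2 ⟨v, rTensor_smul_id x v⟩
  have h0 : rπ w = 0 := smul_injective_of_flat_quot (A := A) y hy N (show y • rπ w = y • 0 by
    rw [← map_smul, h, hx0, smul_zero])
  obtain ⟨z, hz⟩ := (hT w).1 h0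
  exact ⟨z, by rw [← hz, rTensor_smul_id]⟩

/-- Elementwise regular pair at a prime. -/
def PairAt (P : Type u) [AddCommGroup P] [Module B P] (q : Ideal B) (x y : B) : Prop :=
  (∀ m : P, x • m = 0 → ∃ t ∉ q, t • m = 0) ∧
    ∀ m n : P, y • m = x • n → ∃ t ∉ q, ∃ n' : P, t • m = x • n'

theorem PairAt.congr {P P' : Type u} [AddCommGroup P] [Module B P] [AddCommGroup P'] [Module B P']
    (e : P ≃ₗ[B] P') {q : Ideal B} {x y : B} (h : PairAt P q x y) : PairAt P' q x y := by
  refine ⟨fun m hm => ?_, fun m n hmn => ?_⟩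
  · obtain ⟨t, ht, htm⟩ := h.1 (e.symm m) (by rw [← map_smul, hm, map_zero])
    exact ⟨t, ht, e.symm.injective (by rw [map_smul, htm, map_zero])⟩
  · obtain ⟨t, ht, n', hn'⟩ := h.2 (e.symm m) (e.symm n) (by rw [← map_smul, hmn, map_smul])
    exact ⟨t, ht, e n', by rw [← map_smul, ← hn', map_smul, e.apply_symm_apply]⟩

variable [IsNoetherianRing A] [IsNoetherianRing B] (E : Type u) [AddCommGroup E] [Module B E] [Module A E]
  [IsScalarTower A B E] [Module.Finite B E]

/-- A regular pair on the fibre gives a regular pair on every tensor product. -/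
theorem exists_pairAt (q : Ideal B) [q.IsPrime] (hflat : Module.Flat A (LocalizedModule q.primeCompl E))
    (hd : 2 ≤ LocCoh.idealDepth (q.map (algebraMap B (EGA4.FibLocRing A B q))) (EGA4.FibLocMod A B q E)) :
    ∃ x ∈ q, ∃ y ∈ q, ∀ (N : Type u) [AddCommGroup N] [Module A N], PairAt (E ⊗[A] N) q x y := by
  rw [FlatNbhdLib.idealDepth_fibLocMod] at hd
  let p := q.comap (algebraMap A B)
  let Ap := Localization.AtPrime p
  let Bq := Localization.AtPrime q
  let M := LocalizedModule q.primeCompl E
  let φ : Ap →+* Bq := Localization.localRingHom p q (algebraMap A B) rfl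
  letI : Algebra Ap Bq := φ.toAlgebra
  haveI : IsScalarTower A Ap Bq := IsScalarTower.of_algebraMap_eq fun a => by
    show algebraMap A Bq a = φ (algebraMap A Ap a)
    rw [Localization.localRingHom_to_map, IsScalarTower.algebraMap_apply A B Bq]
  haveI : IsLocalHom (algebraMap Ap Bq) := Localization.isLocalHom_localRingHom p q (algebraMap A B) rfl
  haveI : IsNoetherianRing Bq := IsLocalization.isNoetherianRing q.primeCompl _ inferInstance
  haveI : IsNoetherianRing Ap := IsLocalization.isNoetherianRing p.primeCompl _ inferInstance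
  letI : Module Ap M := Module.compHom _ φ
  haveI : IsScalarTower Ap Bq M := ⟨fun a b m => mul_smul (φ a) b m⟩
  haveI : IsScalarTower A Bq M := IsScalarTower.of_algebraMap_smul fun a m => by
    rw [IsScalarTower.algebraMap_apply A B Bq, algebraMap_smul, algebraMap_smul]
  haveI hA : IsScalarTower A Ap M := IsScalarTower.of_algebraMap_smul fun a m => by
    rw [← algebraMap_smul Bq (algebraMap A Ap a) m, ← IsScalarTower.algebraMap_apply A Ap Bq, algebraMap_smul]
  haveI : Module.Flat Ap M := (Module.flat_iff_of_isLocalization Ap p.primeCompl M).2 hflat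
  have hfib : LocCoh.idealDepth (maximalIdeal Bq) (EGA4.FibMod Ap Bq M) =
      LocCoh.depth Bq (EGA4.FibLocMod A B q E) :=
    CommAlgDim.idealDepth_congr _ (Submodule.quotEquivOfEq _ _ (by
      rw [EGA4.mB, ← Localization.AtPrime.map_eq_maximalIdeal, Ideal.map_map, ← IsScalarTower.algebraMap_eq]))
  rw [← hfib] at hd
  obtain ⟨rs, hl, hm, hr⟩ := (CommAlgDim.le_idealDepth_iff (M := EGA4.FibMod Ap Bq M) _ 2).1 hd
  obtain ⟨a, b, rfl⟩ : ∃ a b, rs = [a, b] := by
    match rs, hl with
    | [a, b], _ => exact ⟨a, b, rfl⟩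
  obtain ⟨⟨x, sx⟩, hxe⟩ := IsLocalization.surj q.primeCompl a
  obtain ⟨⟨y, sy⟩, hye⟩ := IsLocalization.surj q.primeCompl b
  have hua : IsUnit (algebraMap B Bq sx) := IsLocalization.map_units Bq sx
  have hub : IsUnit (algebraMap B Bq sy) := IsLocalization.map_units Bq sy
  have hxq : x ∈ q := (IsLocalization.AtPrime.to_map_mem_maximal_iff Bq q x).1
    (hxe ▸ Ideal.mul_mem_right _ _ (hm a (by simp)))
  have hyq : y ∈ q := (IsLocalization.AtPrime.to_map_mem_maximal_iff Bq q y).1
    (hye ▸ Ideal.mul_mem_right _ _ (hm b (by simp)))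
  have hreg : IsWeaklyRegular (EGA4.FibMod Ap Bq M) [algebraMap B Bq x, algebraMap B Bq y] := by
    rw [isWeaklyRegular_cons_iff, isWeaklyRegular_singleton_iff] at hr ⊢
    have h1 : IsSMulRegular (EGA4.FibMod Ap Bq M) (algebraMap B Bq x) := fun c d hcd => hr.1 (hua.smul_left_cancel.1 (by
      simp only [smul_smul, mul_comm _ a]
      rw [hxe]; exact hcd))
    refine ⟨h1, ?_⟩
    have e : (Ideal.span {algebraMap B Bq x} : Ideal Bq) = Ideal.span {a} :=
      by rw [← hxe]; exact Ideal.span_singleton_mul_right_unit hua a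
    have hE : algebraMap B Bq x • (⊤ : Submodule Bq (EGA4.FibMod Ap Bq M)) = a • ⊤ := by
      rw [← Submodule.ideal_span_singleton_smul, e, Submodule.ideal_span_singleton_smul]
    let ε := Submodule.quotEquivOfEq _ _ hE
    intro c d hcd
    refine ε.injective (hr.2 (hub.smul_left_cancel.1 ?_))
    rw [smul_smul, smul_smul, mul_comm _ b, hye, ← map_smul, ← map_smul]
    exact congrArg ε hcd
  obtain ⟨hwr, hfl⟩ := Groth.Agent.S5774.result Ap Bq M _ hreg
  have hfl' : ∀ S : Submodule Bq M, Module.Flat Ap (M ⧸ S) → Module.Flat A (M ⧸ S) := fun S h =>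
    (Module.flat_iff_of_isLocalization Ap p.primeCompl (M ⧸ S)).1 h
  have hcongr : ∀ S S' : Submodule Bq M, S = S' → Module.Flat A (M ⧸ S) → Module.Flat A (M ⧸ S') := by
    rintro S _ rfl h; exact h
  let S1 : Submodule Bq M := Ideal.span {algebraMap B Bq x} • ⊤
  let S2 : Submodule Bq M := Ideal.span {algebraMap B Bq y} • ⊤
  let M1 := M ⧸ S1
  have hfl1 : Module.Flat A M1 := by
    refine hcongr _ _ ?_ (hfl' _ (hfl 1 (by simp)))
    rw [List.take_succ_cons, List.take_zero, Ideal.ofList_singleton]
  have hfl2 : Module.Flat A (M1 ⧸ Ideal.span {algebraMap B Bq y} • (⊤ : Submodule Bq M1)) := by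
    haveI : Module.Flat A (M ⧸ S1 ⊔ S2) := hcongr _ _
      (by rw [List.take_succ_cons, List.take_succ_cons, List.take_zero, Ideal.ofList_cons, Ideal.ofList_singleton, Submodule.sup_smul])
      (hfl' _ (hfl 2 (by simp)))
    let e2 := (Submodule.quotientQuotientEquivQuotientSup S1 S2).symm
    let e3 := Submodule.quotEquivOfEq (S2.map S1.mkQ) (Ideal.span {algebraMap B Bq y} • (⊤ : Submodule Bq M1))
      (by rw [Submodule.map_smul'', Submodule.map_top, Submodule.range_mkQ])
    exact Module.Flat.of_linearEquiv ((e2.trans e3).restrictScalars A).symm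
  rw [isWeaklyRegular_cons_iff, isWeaklyRegular_singleton_iff] at hwr
  have hy1 : IsSMulRegular M1 (algebraMap B Bq y) := by
    intro c d hcd
    let ε := Submodule.quotEquivOfEq _ _
      (Submodule.ideal_span_singleton_smul (algebraMap B Bq x) (⊤ : Submodule Bq M))
    exact ε.injective (hwr.2 (show _ • ε c = _ • ε d by rw [← map_smul, ← map_smul]; exact congrArg ε hcd))
  refine ⟨x, hxq, y, hyq, fun N _ _ => ?_⟩
  haveI := hfl1
  haveI := hfl2
  have hX := smul_injective_of_flat_quot (A := A) (algebraMap B Bq x) hwr.1 N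
  let g := AlgebraTensorModule.rTensor A N (LocalizedModule.mkLinearMap q.primeCompl E)
  have hg : ∀ (c : B) (m : E ⊗[A] N), g (c • m) = algebraMap B Bq c • g m := fun c m => by
    rw [map_smul, algebraMap_smul]
  refine ⟨fun m hm => ?_, fun m n hmn => ?_⟩
  · have h0 : g m = 0 := hX (show algebraMap B Bq x • g m = algebraMap B Bq x • 0 by
      rw [← hg, hm, map_zero, smul_zero])
    obtain ⟨t, ht⟩ := (IsLocalizedModule.eq_zero_iff q.primeCompl g).1 h0
    exact ⟨t, t.2, ht⟩
  · obtain ⟨z, hz⟩ := pair_tensor (A := A) (algebraMap B Bq x) (algebraMap B Bq y) hy1 N (g m) (g n)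
      (by rw [← hg, hmn, hg])
    obtain ⟨⟨n', s⟩, hs⟩ := IsLocalizedModule.surj q.primeCompl g z
    have hse : g ((s : B) • m - x • n') = 0 := by
      rw [map_sub, map_smul, map_smul, ← hs, Submonoid.smul_def, hz, algebraMap_smul, smul_comm, sub_self]
    obtain ⟨t, ht⟩ := (IsLocalizedModule.eq_zero_iff q.primeCompl g).1 hse
    refine ⟨t * s, (t * s : q.primeCompl).2, (t : B) • n', ?_⟩
    rw [Submonoid.smul_def, smul_sub, sub_eq_zero] at ht
    rw [mul_smul, ht, smul_comm]

end Groth.Agent.DepthBCLib
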