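import Groth.Agent.DepthBCLib.BC
import Groth.Agent.S18708
import Mathlib.Algebra.Module.LocalizedModule.Submodule
import Mathlib.RingTheory.Flat.Localization

/-! The four-term criterion with projective middle terms. -/

set_option autoImplicit false
set_option linter.style.haveILetI false
set_option linter.unusedSectionVars false
set_option maxHeartbeats 1000000

universe u

open IsLocalRing TensorProduct RingTheory.Sequence DepthTwoLib CommAlgDim
open scoped Pointwise

namespace Groth.Agent.DepthBCLib

theorem exists_map_list {R S : Type u} [CommRing R] [CommRing S] (f : R →+* S) (hf : Function.Surjective f)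
    (I : Ideal R) : ∀ rs : List S, (∀ r ∈ rs, r ∈ I.map f) → ∃ ls : List R, (∀ a ∈ ls, a ∈ I) ∧ ls.map f = rs
  | [], _ => ⟨[], by simp, rfl⟩
  | r :: rs, h => by
    obtain ⟨a, ha, rfl⟩ := (Ideal.mem_map_iff_of_surjective f hf).1 (h r List.mem_cons_self)
    obtain ⟨ls, hls, rfl⟩ := exists_map_list f hf I rs fun x hx => h x (List.mem_cons_of_mem _ hx)
    exact ⟨a :: ls, List.forall_mem_cons.2 ⟨ha, hls⟩, rfl⟩

theorem projective_localized {S : Type u} [CommRing S] (T : Submonoid S) (E : Type u) [AddCommGroup E] [Module S E]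
    [Module.Projective S E] : Module.Projective (Localization T) (LocalizedModule T E) :=
  Module.Projective.of_equiv (IsLocalizedModule.isBaseChange T (Localization T) (LocalizedModule.mkLinearMap T E)).equiv

theorem projective_of_exact {L W K' W0 W3 : Type u} [CommRing L] [AddCommGroup K'] [Module L K'] [AddCommGroup W0]
    [Module L W0] [AddCommGroup W] [Module L W] [AddCommGroup W3] [Module L W3] [Module.Projective L W0]
    [Module.Projective L W] [Module.Projective L W3] (k₁ : K' →ₗ[L] W0) (k₂ : W0 →ₗ[L] W) (k₃ : W →ₗ[L] W3)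
    (hk : Function.Injective k₁) (h12 : Function.Exact k₁ k₂) (h23 : Function.Exact k₂ k₃)
    (h3 : Function.Surjective k₃) : Module.Projective L K' := by
  obtain ⟨s3, hs3⟩ := Module.projective_lifting_property k₃ LinearMap.id h3
  let r3 : W →ₗ[L] W := LinearMap.id - s3 ∘ₗ k₃
  have hr3 : ∀ x, r3 x ∈ LinearMap.range k₂ := fun x => (h23 _).1 (by
    rw [show r3 x = x - s3 (k₃ x) from rfl, map_sub, show k₃ (s3 (k₃ x)) = k₃ x from LinearMap.congr_fun hs3 _, sub_self])
  haveI : Module.Projective L (LinearMap.range k₂) :=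
    Module.Projective.of_split (LinearMap.range k₂).subtype (LinearMap.codRestrict _ r3 hr3)
      (LinearMap.ext fun x => Subtype.ext (by
        show (x : W) - s3 (k₃ x) = x
        rw [show k₃ (x : W) = 0 from (h23 _).2 x.2, map_zero, sub_zero]))
  obtain ⟨s2, hs2⟩ := Module.projective_lifting_property k₂.rangeRestrict LinearMap.id k₂.surjective_rangeRestrict
  let r2 : W0 →ₗ[L] W0 := LinearMap.id - s2 ∘ₗ k₂.rangeRestrict
  have hr2 : ∀ x, r2 x ∈ LinearMap.range k₁ := fun x => by
    refine (h12 _).1 (congrArg Subtype.val (show k₂.rangeRestrict (r2 x) = 0 from ?_))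
    rw [show r2 x = x - s2 (k₂.rangeRestrict x) from rfl, map_sub,
      show k₂.rangeRestrict (s2 (k₂.rangeRestrict x)) = k₂.rangeRestrict x from LinearMap.congr_fun hs2 _, sub_self]
  exact Module.Projective.of_split k₁
    ((LinearEquiv.ofInjective k₁ hk).symm.toLinearMap ∘ₗ LinearMap.codRestrict _ r2 hr2)
    (LinearMap.ext fun x => (LinearEquiv.ofInjective k₁ hk).injective (Subtype.ext (by
      rw [LinearMap.comp_apply, LinearMap.comp_apply, LinearEquiv.coe_coe, LinearEquiv.apply_symm_apply]
      show k₁ x - s2 (k₂.rangeRestrict (k₁ x)) = k₁ x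
      rw [show k₂.rangeRestrict (k₁ x) = 0 from Subtype.ext ((h12 _).2 ⟨x, rfl⟩), map_zero, sub_zero])))

/-- Depth along a surjection of rings. -/
theorem le_idealDepth_surjective {R S : Type u} [CommRing R] [CommRing S] [IsNoetherianRing R] [Algebra R S]
    (hs : Function.Surjective (algebraMap R S)) (I : Ideal R) (M : Type u) [AddCommGroup M] [Module R M] [Module S M]
    [IsScalarTower R S M] [Module.Finite R M] (n : ℕ) :
    (n : ℕ∞) ≤ LocCoh.idealDepth (I.map (algebraMap R S)) M ↔ (n : ℕ∞) ≤ LocCoh.idealDepth I M := by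
  haveI : IsNoetherianRing S := isNoetherianRing_of_surjective R S _ hs
  haveI : Module.Finite S M := Module.Finite.of_restrictScalars_finite R S M
  rw [le_idealDepth_iff, le_idealDepth_iff]
  constructor
  · rintro ⟨rs, hl, hm, hr⟩
    obtain ⟨ls, hls, rfl⟩ := exists_map_list (algebraMap R S) hs I rs hm
    exact ⟨ls, by simpa using hl, hls, (isWeaklyRegular_map_algebraMap_iff S M ls).1 hr⟩
  · rintro ⟨rs, hl, hm, hr⟩
    refine ⟨rs.map (algebraMap R S), by simpa using hl, fun r hr' => ?_, (isWeaklyRegular_map_algebraMap_iff S M rs).2 hr⟩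
    obtain ⟨a, ha, rfl⟩ := List.mem_map.1 hr'
    exact Ideal.mem_map_of_mem _ (hm a ha)

theorem d2_retract {S : Type u} [CommRing S] {J : Ideal S} {M M' : Type u} [AddCommGroup M] [Module S M]
    [AddCommGroup M'] [Module S M'] (h : D2 J M) (i : M' →ₗ[S] M) (r : M →ₗ[S] M') (hri : r ∘ₗ i = LinearMap.id) :
    D2 J M' := by
  have hi : Function.Injective i := Function.LeftInverse.injective (g := r) fun x => LinearMap.congr_fun hri x
  refine ⟨h.1.of_injective i hi, fun φ => ?_⟩
  obtain ⟨m, hm⟩ := h.2 (i ∘ₗ φ)
  refine ⟨r m, fun j => hi ?_⟩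
  rw [map_smul]
  have := hm j
  rw [LinearMap.comp_apply] at this
  rw [this, show i (r m) = i (r m) from rfl]
  have h2 : i (r (i (φ j))) = i (φ j) := by rw [show r (i (φ j)) = φ j from LinearMap.congr_fun hri _]
  rw [this, map_smul, map_smul] at h2
  exact h2.symm

/-- Depth two passes to tensor products with projective modules. -/
theorem d2_tensor_projective {S : Type u} [CommRing S] {J : Ideal S} {P : Type u} [AddCommGroup P] [Module S P]
    (h : D2 J P) (E : Type u) [AddCommGroup E] [Module S E] [Module.Finite S E] [Module.Projective S E] :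
    D2 J (P ⊗[S] E) := by
  obtain ⟨n, π, hπ⟩ := Module.Finite.exists_fin' S E
  obtain ⟨s, hs⟩ := Module.projective_lifting_property π LinearMap.id hπ
  have hn : D2 J (P ⊗[S] (Fin n → S)) :=
    (h.pi (ι := ULift.{u} (Fin n))).congr ((TensorProduct.piScalarRight S S P (Fin n)).trans
      (LinearEquiv.funCongrLeft S P Equiv.ulift))
  exact d2_retract hn (s.lTensor P) (π.lTensor P) (by rw [← LinearMap.lTensor_comp, hs, LinearMap.lTensor_id])

theorem d2_projective {S : Type u} [CommRing S] {J : Ideal S} (h : D2 J S) (E : Type u) [AddCommGroup E] [Module S E]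
    [Module.Finite S E] [Module.Projective S E] : D2 J E :=
  (d2_tensor_projective h E).congr (TensorProduct.lid S E).symm

section General

variable {R S : Type u} [CommRing R] [CommRing S] [IsNoetherianRing R] [IsNoetherianRing S] [Algebra R S]
  [Module.Flat R S] (J : Ideal S)
  (hJ : ∀ p : Ideal R, p.IsPrime → D2 J (S ⧸ p.map (algebraMap R S)))

include hJ

/-- The fibre stalks of a projective module have depth two along `J`. -/
theorem fibre_depth_projective (q : Ideal S) [q.IsPrime] (E : Type u) [AddCommGroup E] [Module S E]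
    [Module.Finite S E] [Module.Projective S E] :
    2 ≤ LocCoh.idealDepth (J.map (algebraMap S (Localization.AtPrime q))) (EGA4.FibLocMod R S q E) := by
  let p := q.comap (algebraMap R S)
  let I := p.map (algebraMap R S)
  let L := Localization.AtPrime q
  haveI : IsNoetherianRing L := IsLocalization.isNoetherianRing q.primeCompl _ inferInstance
  have h1 : D2 J (E ⧸ I • (⊤ : Submodule S E)) :=
    (d2_tensor_projective (hJ p inferInstance) E).congr (TensorProduct.quotTensorEquivQuotSMul E I).symm
  rw [← two_le_iff] at h1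
  obtain ⟨rs, hl, hm, hr⟩ := (le_idealDepth_iff J 2).1 h1
  let f := (I • (⊤ : Submodule S E)).toLocalizedQuotient' L q.primeCompl (LocalizedModule.mkLinearMap q.primeCompl E)
  have heq : (I • (⊤ : Submodule S E)).localized' L q.primeCompl (LocalizedModule.mkLinearMap q.primeCompl E) =
      (p.map (algebraMap R L)) • (⊤ : Submodule L (LocalizedModule q.primeCompl E)) := by
    rw [Submodule.localized'_smul, Submodule.localized'_top, Ideal.localized'_eq_map, Ideal.map_map,
      ← IsScalarTower.algebraMap_eq]
  refine (le_idealDepth_iff _ 2).2 (HasSeqIn.congr (Submodule.quotEquivOfEq _ _ heq)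
    ⟨rs.map (algebraMap S L), by simpa using hl, fun r hr' => ?_, IsWeaklyRegular.of_isLocalizedModule L q.primeCompl f hr⟩)
  obtain ⟨a, ha, rfl⟩ := List.mem_map.1 hr'
  exact Ideal.mem_map_of_mem _ (hm a ha)

variable {F E0 E1 G : Type u}
  [AddCommGroup F] [Module S F] [Module R F] [IsScalarTower R S F] [Module.Finite S F]
  [AddCommGroup E0] [Module S E0] [Module R E0] [IsScalarTower R S E0] [Module.Finite S E0] [Module.Projective S E0]
  [AddCommGroup E1] [Module S E1] [Module R E1] [IsScalarTower R S E1] [Module.Finite S E1] [Module.Projective S E1]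
  [AddCommGroup G] [Module S G] [Module R G] [IsScalarTower R S G] [Module.Finite S G]
  (f : F →ₗ[S] E0) (u : E0 →ₗ[S] E1) (v : E1 →ₗ[S] G)
  (hf : Function.Injective f) (hfu : Function.Exact f u) (huv : Function.Exact u v) (hv : Function.Surjective v)
  (hGU : ∀ q : PrimeSpectrum S, ¬ J ≤ q.asIdeal → FlatCA.FlatAt R q.asIdeal G)

include hf hfu huv hv hGU

/-- The criterion at a prime. -/
theorem criterion_at (q : Ideal S) [q.IsPrime] :
    (2 ≤ LocCoh.idealDepth (J.map (algebraMap S (EGA4.FibLocRing R S q))) (EGA4.FibLocMod R S q F) ↔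
      FlatCA.FlatAt R q G) ∧ (FlatCA.FlatAt R q G → FlatCA.FlatAt R q F) := by
  haveI : Module.Flat R E0 := Module.Flat.trans R S E0
  haveI : Module.Flat R E1 := Module.Flat.trans R S E1
  let p := q.comap (algebraMap R S)
  let Ap := Localization.AtPrime p
  let Bq := Localization.AtPrime q
  let T := q.primeCompl
  let φ : Ap →+* Bq := Localization.localRingHom p q (algebraMap R S) rfl
  letI : Algebra Ap Bq := φ.toAlgebra
  haveI : IsScalarTower R Ap Bq := IsScalarTower.of_algebraMap_eq fun a => by
    show algebraMap R Bq a = φ (algebraMap R Ap a)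
    rw [Localization.localRingHom_to_map, IsScalarTower.algebraMap_apply R S Bq]
  haveI : IsLocalHom (algebraMap Ap Bq) := Localization.isLocalHom_localRingHom p q (algebraMap R S) rfl
  haveI : IsNoetherianRing Bq := IsLocalization.isNoetherianRing T _ inferInstance
  haveI : IsNoetherianRing Ap := IsLocalization.isNoetherianRing p.primeCompl _ inferInstance
  letI : Module Ap (LocalizedModule T F) := Module.compHom _ φ
  letI : Module Ap (LocalizedModule T E0) := Module.compHom _ φ
  letI : Module Ap (LocalizedModule T E1) := Module.compHom _ φ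
  letI : Module Ap (LocalizedModule T G) := Module.compHom _ φ
  haveI : IsScalarTower Ap Bq (LocalizedModule T F) := ⟨fun a b m => mul_smul (φ a) b m⟩
  haveI : IsScalarTower Ap Bq (LocalizedModule T E0) := ⟨fun a b m => mul_smul (φ a) b m⟩
  haveI : IsScalarTower Ap Bq (LocalizedModule T E1) := ⟨fun a b m => mul_smul (φ a) b m⟩
  haveI : IsScalarTower Ap Bq (LocalizedModule T G) := ⟨fun a b m => mul_smul (φ a) b m⟩
  have hB : ∀ (N : Type u) [AddCommGroup N] [Module S N] [Module R N] [IsScalarTower R S N],
      IsScalarTower R Bq (LocalizedModule T N) := fun N _ _ _ _ => IsScalarTower.of_algebraMap_smul fun a m => by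
    rw [IsScalarTower.algebraMap_apply R S Bq, algebraMap_smul, algebraMap_smul]
  haveI := hB F
  haveI := hB E0
  haveI := hB E1
  haveI := hB G
  have hA : ∀ (N : Type u) [AddCommGroup N] [Module Bq N] [Module R N] [IsScalarTower R Bq N] [Module Ap N]
      [IsScalarTower Ap Bq N], IsScalarTower R Ap N := fun N _ _ _ _ _ _ =>
    IsScalarTower.of_algebraMap_smul fun a m => by
      rw [← algebraMap_smul Bq (algebraMap R Ap a) m, ← IsScalarTower.algebraMap_apply R Ap Bq, algebraMap_smul]
  haveI := hA (LocalizedModule T F)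
  haveI := hA (LocalizedModule T E0)
  haveI := hA (LocalizedModule T E1)
  haveI := hA (LocalizedModule T G)
  have hflat : ∀ (N : Type u) [AddCommGroup N] [Module R N] [Module Ap N] [IsScalarTower R Ap N],
      Module.Flat Ap N ↔ Module.Flat R N := fun N _ _ _ _ => Module.flat_iff_of_isLocalization Ap p.primeCompl N
  haveI : Module.Flat Ap (LocalizedModule T E0) := (hflat _).2 (flat_localizedModule E0 T)
  haveI : Module.Flat Ap (LocalizedModule T E1) := (hflat _).2 (flat_localizedModule E1 T)
  let gF := LocalizedModule.mkLinearMap T F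
  let g0 := LocalizedModule.mkLinearMap T E0
  let g1 := LocalizedModule.mkLinearMap T E1
  let gG := LocalizedModule.mkLinearMap T G
  let J' := J.map (algebraMap S Bq)
  have hfib : ∀ (E : Type u) [AddCommGroup E] [Module S E],
      LocCoh.idealDepth J' (EGA4.FibMod Ap Bq (LocalizedModule T E)) = LocCoh.idealDepth J' (EGA4.FibLocMod R S q E) :=
    fun E _ _ => idealDepth_congr _ (Submodule.quotEquivOfEq _ _ (by
      rw [EGA4.mB, ← Localization.AtPrime.map_eq_maximalIdeal, Ideal.map_map, ← IsScalarTower.algebraMap_eq]))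
  have hF : 2 ≤ LocCoh.idealDepth (J.map (algebraMap S (EGA4.FibLocRing R S q))) (EGA4.FibLocMod R S q F) ↔
      2 ≤ LocCoh.idealDepth J' (EGA4.FibLocMod R S q F) := by
    let 𝔞 : Ideal Bq := p.map (algebraMap R Bq)
    haveI : IsScalarTower Bq (EGA4.FibLocRing R S q) (EGA4.FibLocMod R S q F) :=
      @IsScalarTower.of_algebraMap_smul Bq (EGA4.FibLocRing R S q) _ _ _ _ _ _ fun (r : Bq) (m : EGA4.FibLocMod R S q F) => by
        obtain ⟨y, rfl⟩ := Submodule.mkQ_surjective (𝔞 • (⊤ : Submodule Bq (LocalizedModule q.primeCompl F))) m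
        rfl
    haveI : Module.Finite Bq (EGA4.FibLocMod R S q F) := Module.Finite.of_surjective (Submodule.mkQ _) (Submodule.mkQ_surjective _)
    rw [show J.map (algebraMap S (EGA4.FibLocRing R S q)) = J'.map (algebraMap Bq (EGA4.FibLocRing R S q)) by
      rw [Ideal.map_map]; rfl]
    exact le_idealDepth_surjective (S := EGA4.FibLocRing R S q) (Ideal.Quotient.mk_surjective (I := 𝔞)) J' (EGA4.FibLocMod R S q F) 2
  have h0 := fibre_depth_projective J hJ q E0
  have h1 := (le_trans one_le_two (fibre_depth_projective J hJ q E1) : (1 : ℕ∞) ≤ _)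
  rw [hF]
  rw [← hfib] at h0 h1 ⊢
  let f' := (IsLocalizedModule.map T gF g0 f).extendScalarsOfIsLocalization T Bq
  let u' := (IsLocalizedModule.map T g0 g1 u).extendScalarsOfIsLocalization T Bq
  let v' := (IsLocalizedModule.map T g1 gG v).extendScalarsOfIsLocalization T Bq
  have hmain := Groth.Agent.S18708.result Ap Bq J' _ _ _ _ f' u' v'
    (IsLocalizedModule.map_injective T gF g0 f hf) (IsLocalizedModule.map_exact T gF g0 g1 f u hfu)
    (IsLocalizedModule.map_exact T g0 g1 gG u v huv) (IsLocalizedModule.map_surjective T g1 gG v hv)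
    (by
      intro Q hQ
      haveI : IsScalarTower R Bq (LocalizedModule Q.asIdeal.primeCompl (LocalizedModule T G)) :=
        IsScalarTower.of_algebraMap_smul fun a m => by
          induction m using LocalizedModule.induction_on with
          | h x t => rw [LocalizedModule.smul'_mk, LocalizedModule.smul'_mk, algebraMap_smul]
      haveI : IsScalarTower R S (LocalizedModule Q.asIdeal.primeCompl (LocalizedModule T G)) :=
        IsScalarTower.of_algebraMap_smul fun a m => by
          rw [← algebraMap_smul Bq (algebraMap R S a) m, ← IsScalarTower.algebraMap_apply R S Bq, algebraMap_smul]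
      haveI := hA (LocalizedModule Q.asIdeal.primeCompl (LocalizedModule T G))
      show Module.Flat Ap _
      rw [hflat]
      let r := Q.asIdeal.comap (algebraMap S Bq)
      haveI := SkOpenLib.isLocalizedModule_localized_localized (M := G) q Q.asIdeal
      exact FlatLib.flat_of_le r.primeCompl (LocalizedModule.mkLinearMap _ G) r.primeCompl
        ((LocalizedModule.mkLinearMap Q.asIdeal.primeCompl (LocalizedModule T G)).restrictScalars S ∘ₗ gG) le_rfl
        (hGU ⟨r, inferInstance⟩ fun h => hQ (Ideal.map_le_iff_le_comap.2 h)))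
    h0 h1
  exact ⟨hmain.1.trans (hflat _), fun h => (hflat _).1 (hmain.2.2 ((hflat _).2 h))⟩

theorem criterion :
    (∀ q : PrimeSpectrum S, FlatCA.FlatAt R q.asIdeal F ∧
      2 ≤ LocCoh.idealDepth (J.map (algebraMap S (EGA4.FibLocRing R S q.asIdeal))) (EGA4.FibLocMod R S q.asIdeal F)) ↔
      Module.Flat R G := by
  refine ⟨fun h => ?_, fun h q => ?_⟩
  · exact Module.flat_of_isLocalized_maximal (R := R) (S := S) (M := G) (fun P _ => LocalizedModule P.primeCompl G)
      (fun P _ => LocalizedModule.mkLinearMap P.primeCompl G) fun P hP =>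
        (criterion_at J hJ f u v hf hfu huv hv hGU P).1.1 (h ⟨P, hP.isPrime⟩).2
  · have hq : FlatCA.FlatAt R q.asIdeal G := flat_localizedModule G q.asIdeal.primeCompl
    have hc := criterion_at J hJ f u v hf hfu huv hv hGU q.asIdeal
    exact ⟨hc.2 hq, hc.1.2 hq⟩

end General

section Pushout

variable {A B : Type u} [CommRing A] [CommRing B] [IsNoetherianRing A] [IsNoetherianRing B] [Algebra A B]
  (A' B' : Type u) [CommRing A'] [CommRing B'] [IsNoetherianRing A'] [IsNoetherianRing B']
  [Algebra A A'] [Algebra B B'] [Algebra A' B'] [Algebra A B'] [IsScalarTower A B B'] [IsScalarTower A A' B']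
  [Algebra.IsPushout A B A' B'] [Module.Flat A B] (J : Ideal B)
  (hZ : ∀ q : PrimeSpectrum B, J ≤ q.asIdeal →
    2 ≤ LocCoh.idealDepth (q.asIdeal.map (algebraMap B (EGA4.FibLocRing A B q.asIdeal))) (EGA4.FibLocRing A B q.asIdeal))

include hZ

theorem d2_fibre (p : Ideal A') :
    D2 (J.map (algebraMap B B')) (B' ⧸ p.map (algebraMap A' B')) := by
  let N := A' ⧸ p
  let c := Algebra.IsPushout.cancelBaseChange A B A' B' N
  refine D2.congr ?_ ((Algebra.TensorProduct.quotIdealMapEquivTensorQuot B' p).toLinearEquiv)
  rw [← two_le_iff]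
  refine (le_idealDepth_iff _ 2).2 ((hasSeqIn_iff_forall_localization _ 2).2 fun q' _ hJ => ?_)
  let q := q'.comap (algebraMap B B')
  obtain ⟨x, hx, y, hy, h⟩ := exists_pairAt (A := A) B q (flat_localizedModule B q.primeCompl)
    (le_fibLocMod_self q 2 (hZ ⟨q, inferInstance⟩ (Ideal.map_le_iff_le_comap.1 hJ)))
  exact (le_depth_iff 2).2 (hasSeqIn_of_pairAt q' rfl hx hy ((h N).congr c.symm))

variable {F E0 E1 G : Type u} [AddCommGroup F] [Module B F] [Module.Finite B F]
  [AddCommGroup E0] [Module B E0] [Module.Finite B E0] [Module.Projective B E0]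
  [AddCommGroup E1] [Module B E1] [Module.Finite B E1] [Module.Projective B E1]
  [AddCommGroup G] [Module B G] [Module.Finite B G]
  (f : F →ₗ[B] E0) (u : E0 →ₗ[B] E1) (v : E1 →ₗ[B] G)
  (hf : Function.Injective f) (hfu : Function.Exact f u) (huv : Function.Exact u v) (hv : Function.Surjective v)
  (hGU : ∀ q : PrimeSpectrum B, ¬ J ≤ q.asIdeal → Module.Free (Localization.AtPrime q.asIdeal) (LocalizedModule q.asIdeal.primeCompl G))

include hf hfu huv hv hGU

theorem main (hFU : ∀ q : PrimeSpectrum B, ¬ J ≤ q.asIdeal → Module.Free (Localization.AtPrime q.asIdeal) (LocalizedModule q.asIdeal.primeCompl F)) :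
    Module.IsReflexive B F ∧
    Module.IsReflexive B' (LinearMap.ker (u.baseChange B')) ∧
    2 ≤ LocCoh.idealDepth (J.map (algebraMap B B')) (LinearMap.ker (u.baseChange B')) ∧
    ((∀ q' : PrimeSpectrum B', FlatCA.FlatAt A' q'.asIdeal (LinearMap.ker (u.baseChange B')) ∧
        2 ≤ LocCoh.idealDepth ((J.map (algebraMap B B')).map (algebraMap B' (EGA4.FibLocRing A' B' q'.asIdeal)))
          (EGA4.FibLocMod A' B' q'.asIdeal (LinearMap.ker (u.baseChange B')))) ↔
      Module.Flat A' (B' ⊗[B] G)) := by
  haveI : Algebra.IsPushout A A' B B' := Algebra.IsPushout.symm inferInstance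
  haveI : Module.Flat A' B' := Module.Flat.isBaseChange A A' B B' (Algebra.IsPushout.out (R := A) (S := A') (R' := B) (S' := B'))
  have hB := d2_ring (A := A) J hZ
  have hF : D2 J F := D2.left f u hf hfu (d2_projective hB E0) (d2_projective hB E1).1
  refine ⟨isReflexive_of_d2 F hB.1 hF fun q hq => ?_, ?_⟩
  · haveI := hFU q hq
    haveI : IsNoetherianRing (Localization.AtPrime q.asIdeal) := IsLocalization.isNoetherianRing q.asIdeal.primeCompl _ inferInstance
    infer_instance
  have hB' := d2_baseChange_self A' B' J hZ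
  let J' := J.map (algebraMap B B')
  let K := LinearMap.ker (u.baseChange B')
  let u' := u.baseChange B'
  let v' := v.baseChange B'
  have hKu : Function.Exact K.subtype u' := LinearMap.exact_iff.2 (by rw [Submodule.range_subtype])
  have huv' : Function.Exact u' v' := lTensor_exact B' huv hv
  have hv' : Function.Surjective v' := LinearMap.lTensor_surjective B' hv
  have hK : D2 J' K := D2.left K.subtype u' K.injective_subtype hKu (d2_projective hB' _) (d2_projective hB' _).1
  have hfreeG : ∀ q' : PrimeSpectrum B', ¬ J' ≤ q'.asIdeal →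
      Module.Free (Localization.AtPrime q'.asIdeal) (LocalizedModule q'.asIdeal.primeCompl (B' ⊗[B] G)) := fun q' hq' => by
    haveI : Module.FinitePresentation B G := Module.finitePresentation_of_finite B G
    have hq : PrimeSpectrum.comap (algebraMap B B') q' ∈ Module.freeLocus B G :=
      hGU _ fun h => hq' (Ideal.map_le_iff_le_comap.2 h)
    exact Module.comap_freeLocus_le (A := B') hq
  refine ⟨isReflexive_of_d2 K hB'.1 hK fun q' hq' => ?_, two_le_iff.2 hK, ?_⟩
  · let T := q'.asIdeal.primeCompl
    haveI : IsNoetherianRing (Localization.AtPrime q'.asIdeal) := IsLocalization.isNoetherianRing T _ inferInstance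
    haveI := hfreeG q' hq'
    let k₁ := LocalizedModule.map T K.subtype
    let k₂ := LocalizedModule.map T u'
    let k₃ := LocalizedModule.map T v'
    have hk : Function.Injective k₁ := LocalizedModule.map_injective T K.subtype K.injective_subtype
    have h12 : Function.Exact k₁ k₂ := LocalizedModule.map_exact T K.subtype u' hKu
    have h23 : Function.Exact k₂ k₃ := LocalizedModule.map_exact T u' v' huv'
    have h3 : Function.Surjective k₃ := LocalizedModule.map_surjective T v' hv'
    haveI : Module.Projective (Localization T) (LocalizedModule T (B' ⊗[B] E0)) :=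
      projective_localized T _
    haveI : Module.Projective (Localization T) (LocalizedModule T (B' ⊗[B] E1)) :=
      projective_localized T _
    letI iK : AddCommGroup (↥K) := inferInstance

    have hproj := projective_of_exact (L := Localization T) (K' := LocalizedModule T K) (W0 := LocalizedModule T (B' ⊗[B] E0))
      (W := LocalizedModule T (B' ⊗[B] E1)) (W3 := LocalizedModule T (B' ⊗[B] G)) k₁ k₂ k₃ hk h12 h23 h3
    haveI : Module.Projective (Localization.AtPrime q'.asIdeal) (LocalizedModule q'.asIdeal.primeCompl K) := hproj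
    infer_instance
  · exact criterion J' (fun p _ => d2_fibre A' B' J hZ p) K.subtype u' v' K.injective_subtype hKu huv' hv'
      fun q' hq' => by
        haveI := hfreeG q' hq'
        haveI : Module.Flat A' (Localization.AtPrime q'.asIdeal) := Module.Flat.trans A' B' _
        exact Module.Flat.trans A' (Localization.AtPrime q'.asIdeal) _

end Pushout

end Groth.Agent.DepthBCLib
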